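import Mathlib

/-!
# ZAS project (S0690, Zassenhaus: a perfect f.p.f. automorphism group is SL(2,5))

Interface file: definitions and one `Prop` per package.  Every package theorem proves
its `Pkg…` proposition, taking the packages it depends on as hypotheses.
-/

set_option autoImplicit false

universe u

namespace Cfsg.Agent.Lib.Helper49.ZAS

/-- a point: a subgroup of order 3 -/
def IsPt {G : Type u} [Group G] (p : Subgroup G) : Prop := Nat.card p = 3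

/-- a group mapping onto `A₄` with kernel of order 2 (a "line", in the end `SL(2,3)`) -/
def LineLike (H : Type u) [Group H] : Prop :=
  ∃ f : H →* Equiv.Perm (Fin 4), f.range = alternatingGroup (Fin 4) ∧ Nat.card f.ker = 2

/-- a group mapping onto `A₅` with kernel of order 2 (a "plane", in the end `SL(2,5)`) -/
def PlaneLike (H : Type u) [Group H] : Prop :=
  ∃ f : H →* Equiv.Perm (Fin 5), f.range = alternatingGroup (Fin 5) ∧ Nat.card f.ker = 2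

def IsLineSub {G : Type u} [Group G] (M : Subgroup G) : Prop := LineLike M

def IsPlaneSub {G : Type u} [Group G] (L : Subgroup G) : Prop := PlaneLike L

/-- collinear: distinct, and the join is a line -/
def Adj {G : Type u} [Group G] (p q : Subgroup G) : Prop := p ≠ q ∧ IsLineSub (p ⊔ q)

/-- every Sylow subgroup is cyclic or generalized quaternion -/
def SylCQ (G : Type u) [Group G] : Prop :=
  ∀ (q : ℕ) [Fact q.Prime] (P : Sylow q G),
    IsCyclic P ∨ ∃ n : ℕ, Nonempty (P ≃* QuaternionGroup (2 ^ n))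

/-- the abstract axioms used by the group-theoretic half -/
structure Ax (G : Type u) [Group G] : Prop where
  ui : ∀ s t : G, orderOf s = 2 → orderOf t = 2 → s = t
  syl : SylCQ G
  pair : ∀ p q : Subgroup G, IsPt p → IsPt q → p ≠ q → IsLineSub (p ⊔ q) ∨ IsPlaneSub (p ⊔ q)
  t1 : ∀ p a b : Subgroup G, IsPt p → IsPt a → IsPt b → Adj p a → Adj p b →
    p ⊔ a ≠ p ⊔ b → IsPlaneSub (p ⊔ a ⊔ b)

/-- the lines through `p` -/
def lineSet {G : Type u} [Group G] (p : Subgroup G) : Set (Subgroup G) :=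
  {M | ∃ a, IsPt a ∧ Adj p a ∧ M = p ⊔ a}

noncomputable def lineCount {G : Type u} [Group G] (p : Subgroup G) : ℕ := (lineSet p).ncard

/-- coordinates of the points of a plane by the 3-subsets of `Fin 5` -/
def PlaneCoords {G : Type u} [Group G] (L : Subgroup G) (S : Subgroup G → Finset (Fin 5)) : Prop :=
  (∀ p, IsPt p → p ≤ L → (S p).card = 3) ∧
  (∀ p q, IsPt p → IsPt q → p ≤ L → q ≤ L → S p = S q → p = q) ∧
  (∀ T : Finset (Fin 5), T.card = 3 → ∃ p, IsPt p ∧ p ≤ L ∧ S p = T) ∧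
  (∀ p q, IsPt p → IsPt q → p ≤ L → q ≤ L → p ≠ q →
    (IsLineSub (p ⊔ q) ↔ (S p ∩ S q).card = 2))

/-! ### linear data -/

/-- a fixed-point-free representation over `ZMod p` -/
structure LinData0 (G : Type u) [Group G] (p : ℕ) [Fact p.Prime] (V : Type u) [AddCommGroup V]
    [Module (ZMod p) V] where
  ρ : G →* (Module.End (ZMod p) V)ˣ
  fpf : ∀ g : G, g ≠ 1 → ∀ v : V, (ρ g : Module.End (ZMod p) V) v = v → v = 0

/-- … together with commuting square roots of `-1` and `-3` -/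
structure LinData (G : Type u) [Group G] (p : ℕ) [Fact p.Prime] (V : Type u) [AddCommGroup V]
    [Module (ZMod p) V] extends LinData0 G p V where
  I : Module.End (ZMod p) V
  J : Module.End (ZMod p) V
  I_sq : I * I = -1
  J_sq : J * J = -3
  I_comm : ∀ g : G, I * (ρ g : Module.End (ZMod p) V) = (ρ g : Module.End (ZMod p) V) * I
  J_comm : ∀ g : G, J * (ρ g : Module.End (ZMod p) V) = (ρ g : Module.End (ZMod p) V) * J

def LinFpf0 (G : Type u) [Group G] : Prop :=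
  ∃ (p : ℕ) (_ : Fact p.Prime) (V : Type u) (_ : AddCommGroup V) (_ : Module (ZMod p) V)
    (_ : Finite V), Nontrivial V ∧ p ≠ 2 ∧ Nonempty (LinData0 G p V)

def LinFpf (G : Type u) [Group G] : Prop :=
  ∃ (p : ℕ) (_ : Fact p.Prime) (V : Type u) (_ : AddCommGroup V) (_ : Module (ZMod p) V)
    (_ : Finite V), Nontrivial V ∧ p ≠ 2 ∧ Nonempty (LinData G p V)

/-! ### packages: reduction to the linear setting -/

/-- [REDSYL] -/
def PkgRedSyl : Prop :=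
  ∀ {K : Type u} [Group K] [Finite K] (G : Subgroup (MulAut K)),
    (∀ φ ∈ G, φ ≠ 1 → ∀ k : K, φ k = k → k = 1) → G ≠ ⊥ → SylCQ G

/-- [REDINV] -/
def PkgRedInv : Prop :=
  ∀ {K : Type u} [Group K] [Finite K] (G : Subgroup (MulAut K)),
    (∀ φ ∈ G, φ ≠ 1 → ∀ k : K, φ k = k → k = 1) → commutator G = ⊤ → G ≠ ⊥ → SylCQ G →
    (∀ a b : K, a * b = b * a) ∧ ∃ s ∈ G, s ≠ 1 ∧ ∀ k : K, s k = k⁻¹

/-- [REDLIN] -/
def PkgRedLin : Prop :=
  ∀ {K : Type u} [Group K] [Finite K] (G : Subgroup (MulAut K)),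
    (∀ φ ∈ G, φ ≠ 1 → ∀ k : K, φ k = k → k = 1) → G ≠ ⊥ →
    (∀ a b : K, a * b = b * a) → (∃ s ∈ G, s ≠ 1 ∧ ∀ k : K, s k = k⁻¹) → LinFpf0 G

/-- [REDIJ] -/
def PkgRedIJ : Prop :=
  ∀ {G : Type u} [Group G], LinFpf0 G → LinFpf G

/-! ### packages: linear algebra -/

/-- [LINBASIC] -/
def PkgLinBasic : Prop :=
  ∀ {G : Type u} [Group G] [Finite G] {p : ℕ} [Fact p.Prime] {V : Type u} [AddCommGroup V]
    [Module (ZMod p) V] [Finite V] [Nontrivial V] (D : LinData0 G p V),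
    (∀ s : G, orderOf s = 2 → (D.ρ s : Module.End (ZMod p) V) = -1) ∧
    (∀ x : G, orderOf x = 3 →
      (D.ρ x : Module.End (ZMod p) V) * (D.ρ x : Module.End (ZMod p) V)
        + (D.ρ x : Module.End (ZMod p) V) + 1 = 0) ∧
    (¬ p ∣ Nat.card G) ∧ Function.Injective D.ρ ∧
    (∀ s t : G, orderOf s = 2 → orderOf t = 2 → s = t)

/-- [EMB] the Clifford embedding -/
def PkgEmb : Prop :=
  ∀ {p : ℕ} [Fact p.Prime] {V : Type u} [AddCommGroup V] [Module (ZMod p) V] [Finite V]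
    [Nontrivial V] (R : Subalgebra (ZMod p) (Module.End (ZMod p) V))
    (a b j : Module.End (ZMod p) V),
    (∀ r ∈ R, ∀ s ∈ R, r * s = s * r) → (∀ r ∈ R, r * a = a * r) → (∀ r ∈ R, r * b = b * r) →
    a * a ∈ R → b * b ∈ R → a * b + b * a ∈ R → j ∈ R → j * j = a * a →
    ∃ (E : Type u) (_ : Field E) (_ : Finite E) (_ : CharP E p)
      (θ : Algebra.adjoin (ZMod p) ((R : Set (Module.End (ZMod p) V)) ∪ {a, b}) →+*
        Matrix (Fin 2) (Fin 2) E),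
      ∀ h : Algebra.adjoin (ZMod p) ((R : Set (Module.End (ZMod p) V)) ∪ {a, b}),
        (∀ v : V, (h : Module.End (ZMod p) V) v = v → v = 0) → θ h ≠ 1

/-- [SL2HOM] -/
def PkgSL2Hom : Prop :=
  ∀ {p : ℕ} [Fact p.Prime] {V : Type u} [AddCommGroup V] [Module (ZMod p) V]
    (B : Subalgebra (ZMod p) (Module.End (ZMod p) V)) {E : Type u} [Field E]
    (θ : B →+* Matrix (Fin 2) (Fin 2) E) {H : Type u} [Group H]
    (σ : H →* (Module.End (ZMod p) V)ˣ) (hB : ∀ h : H, (σ h : Module.End (ZMod p) V) ∈ B)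
    (S : Set H),
    Subgroup.closure S = ⊤ →
    (∀ h : H, h ≠ 1 → θ ⟨(σ h : Module.End (ZMod p) V), hB h⟩ ≠ 1) →
    (∀ s ∈ S, (σ s : Module.End (ZMod p) V) * (σ s : Module.End (ZMod p) V)
        + (σ s : Module.End (ZMod p) V) + 1 = 0 ∨
      (σ s : Module.End (ZMod p) V) * (σ s : Module.End (ZMod p) V) + 1 = 0) →
    (∀ s ∈ S, ∃ h : H, s * h ≠ h * s) →
    ∃ ι : H →* Matrix.SpecialLinearGroup (Fin 2) E, Function.Injective ι

/-- [DICK] -/
def PkgDick : Prop :=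
  ∀ {E : Type u} [Field E] [Finite E] {p : ℕ} [Fact p.Prime] [CharP E p] {H : Type u} [Group H]
    [Finite H] (ι : H →* Matrix.SpecialLinearGroup (Fin 2) E), Function.Injective ι →
    ¬ p ∣ Nat.card H → Subgroup.closure {h : H | orderOf h = 3} = ⊤ →
    (∃ a b : H, a * b ≠ b * a) → LineLike H ∨ PlaneLike H

/-- [PAIREMB] -/
def PkgPairEmb : Prop :=
  ∀ {G : Type u} [Group G] [Finite G] {p : ℕ} [Fact p.Prime] {V : Type u} [AddCommGroup V]
    [Module (ZMod p) V] [Finite V] [Nontrivial V] (_ : LinData G p V), p ≠ 2 →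
    ∀ x y : G, orderOf x = 3 → orderOf y = 3 → x * y ≠ y * x →
    ∃ (E : Type u) (_ : Field E) (_ : Finite E) (_ : CharP E p)
      (ι : (Subgroup.closure ({x, y} : Set G)) →* Matrix.SpecialLinearGroup (Fin 2) E),
      Function.Injective ι

/-- [PAIRLIN] -/
def PkgPairLin : Prop :=
  ∀ {G : Type u} [Group G] [Finite G] {p : ℕ} [Fact p.Prime] {V : Type u} [AddCommGroup V]
    [Module (ZMod p) V] [Finite V] [Nontrivial V] (_ : LinData G p V), p ≠ 2 → SylCQ G →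
    ∀ P Q : Subgroup G, IsPt P → IsPt Q → P ≠ Q → IsLineSub (P ⊔ Q) ∨ IsPlaneSub (P ⊔ Q)

/-- [LINESTR] -/
def PkgLineStr : Prop :=
  ∀ {G : Type u} [Group G] [Finite G],
    (∀ s t : G, orderOf s = 2 → orderOf t = 2 → s = t) →
    ∀ M : Subgroup G, IsLineSub M → ∀ w ∈ M, orderOf w = 3 →
    ∃ e z : G, e ∈ M ∧ orderOf z = 2 ∧ e * e = z ∧
      e * (w * e * w⁻¹) = w * w * e * w⁻¹ * w⁻¹ ∧
      (w * e * w⁻¹) * e = z * (w * w * e * w⁻¹ * w⁻¹) ∧
      Subgroup.closure {w, e} = M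

/-- [RIG] -/
def PkgRig : Prop :=
  ∀ {A : Type u} [Ring A], IsUnit (2 : A) → IsUnit (3 : A) → ∀ e₁ e₂ w : A,
    e₁ * e₁ = -1 → e₂ * e₂ = -1 → e₁ * e₂ = -(e₂ * e₁) → w * w + w + 1 = 0 →
    w * e₁ = e₂ * w → w * e₂ = e₁ * e₂ * w → 2 * w + 1 + e₁ + e₂ + e₁ * e₂ = 0

/-- [COORD] -/
def PkgCoord : Prop :=
  ∀ {A : Type u} [Ring A], IsUnit (2 : A) → IsUnit (3 : A) → ∀ e₁ e₂ f₁ f₂ w : A,
    e₁ * e₁ = -1 → e₂ * e₂ = -1 → e₁ * e₂ = -(e₂ * e₁) →
    f₁ * f₁ = -1 → f₂ * f₂ = -1 → f₁ * f₂ = -(f₂ * f₁) →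
    w * w + w + 1 = 0 →
    w * e₁ = e₂ * w → w * e₂ = e₁ * e₂ * w → w * f₁ = f₂ * w → w * f₂ = f₁ * f₂ * w →
    ∃ c₁ c₂ c₃ : A, c₁ * c₂ = c₂ * c₁ ∧ c₁ * c₃ = c₃ * c₁ ∧ c₂ * c₃ = c₃ * c₂ ∧
      (∀ c ∈ ({c₁, c₂, c₃} : Set A), c * e₁ = e₁ * c ∧ c * e₂ = e₂ * c) ∧
      f₁ = c₁ * e₁ + c₂ * e₂ + c₃ * (e₁ * e₂) ∧
      (∀ t : A, t * e₁ = e₁ * t → t * e₂ = e₂ * t → t * f₁ = f₁ * t →
        ∀ c ∈ ({c₁, c₂, c₃} : Set A), t * c = c * t)

/-- [T1EMB] -/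
def PkgT1Emb : Prop :=
  ∀ {G : Type u} [Group G] [Finite G] {p : ℕ} [Fact p.Prime] {V : Type u} [AddCommGroup V]
    [Module (ZMod p) V] [Finite V] [Nontrivial V] (_ : LinData G p V), p ≠ 2 →
    ∀ w e e' z : G, orderOf w = 3 → orderOf z = 2 → e * e = z → e' * e' = z →
      e * (w * e * w⁻¹) = w * w * e * w⁻¹ * w⁻¹ →
      (w * e * w⁻¹) * e = z * (w * w * e * w⁻¹ * w⁻¹) →
      e' * (w * e' * w⁻¹) = w * w * e' * w⁻¹ * w⁻¹ →
      (w * e' * w⁻¹) * e' = z * (w * w * e' * w⁻¹ * w⁻¹) →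
      ∃ (E : Type u) (_ : Field E) (_ : Finite E) (_ : CharP E p)
        (ι : (Subgroup.closure ({w, e, e'} : Set G)) →* Matrix.SpecialLinearGroup (Fin 2) E),
        Function.Injective ι

/-- [T1LIN] -/
def PkgT1Lin : Prop :=
  ∀ {G : Type u} [Group G] [Finite G] {p : ℕ} [Fact p.Prime] {V : Type u} [AddCommGroup V]
    [Module (ZMod p) V] [Finite V] [Nontrivial V] (_ : LinData G p V), p ≠ 2 → SylCQ G →
    ∀ P A B : Subgroup G, IsPt P → IsPt A → IsPt B → Adj P A → Adj P B → P ⊔ A ≠ P ⊔ B →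
      IsPlaneSub (P ⊔ A ⊔ B)

/-! ### packages: abstract group theory -/

/-- [THREE] -/
def PkgThree : Prop :=
  ∀ {G : Type u} [Group G] [Finite G], SylCQ G → commutator G = ⊤ → Nontrivial G →
    ∃ p : Subgroup G, IsPt p

/-- [PTCONJ] -/
def PkgPtConj : Prop :=
  ∀ {G : Type u} [Group G] [Finite G], SylCQ G → ∀ p q : Subgroup G, IsPt p → IsPt q →
    ∃ g : G, q = p.map (MulAut.conj g).toMonoidHom

/-- [NPTS] -/
def PkgNPts : Prop :=
  ∀ {G : Type u} [Group G] [Finite G], SylCQ G → commutator G = ⊤ →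
    (∃ p : Subgroup G, IsPt p) → 4 < Set.ncard {p : Subgroup G | IsPt p}

/-- [LINEFACTS] -/
def PkgLineFacts : Prop :=
  ∀ {G : Type u} [Group G] [Finite G], Ax G → ∀ p a : Subgroup G, IsPt p → IsPt a → Adj p a →
    Nat.card ↥(p ⊔ a) = 24 ∧ Set.ncard {q : Subgroup G | IsPt q ∧ q ≤ p ⊔ a} = 4 ∧
    (∀ q q' : Subgroup G, IsPt q → IsPt q' → q ≤ p ⊔ a → q' ≤ p ⊔ a → q ≠ q' →
      q ⊔ q' = p ⊔ a)

/-- [PLANECORR] -/
def PkgPlaneCorr : Prop :=
  ∀ {G : Type u} [Group G] [Finite G], Ax G → ∀ L : Subgroup G, IsPlaneSub L →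
    ∃ S : Subgroup G → Finset (Fin 5), PlaneCoords L S

/-- [F2C] -/
def PkgF2c : Prop :=
  ∀ {G : Type u} [Group G] [Finite G], Ax G → ∀ p a b : Subgroup G, IsPt p → IsPt a → IsPt b →
    Adj p a → Adj p b → p ⊔ a ≠ p ⊔ b →
    ∃! c : Subgroup G, IsPt c ∧ c ≤ p ⊔ b ∧ c ≠ p ∧ Adj a c

/-- [F2E] -/
def PkgF2e : Prop :=
  ∀ {G : Type u} [Group G] [Finite G], Ax G → ∀ L : Subgroup G, IsPlaneSub L →
    ∀ p : Subgroup G, IsPt p → p ≤ L →
    ∃ a b : Subgroup G, IsPt a ∧ IsPt b ∧ a ≤ L ∧ b ≤ L ∧ Adj p a ∧ Adj p b ∧ p ⊔ a ≠ p ⊔ b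

/-- [LCONST] -/
def PkgLConst : Prop :=
  ∀ {G : Type u} [Group G] [Finite G], Ax G → ∀ p q : Subgroup G, IsPt p → IsPt q →
    lineCount p = lineCount q

/-- [KVAL] -/
def PkgK : Prop :=
  ∀ {G : Type u} [Group G] [Finite G], Ax G → ∀ p : Subgroup G, IsPt p →
    Set.ncard {a : Subgroup G | IsPt a ∧ Adj p a} = 3 * lineCount p

/-- [LAMBDA] -/
def PkgLambda : Prop :=
  ∀ {G : Type u} [Group G] [Finite G], Ax G → ∀ p a : Subgroup G, IsPt p → IsPt a → Adj p a →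
    Set.ncard {c : Subgroup G | IsPt c ∧ Adj p c ∧ Adj a c} = lineCount p + 1

/-- [MU] -/
def PkgMu : Prop :=
  ∀ {G : Type u} [Group G] [Finite G], Ax G → ∀ p w : Subgroup G, IsPt p → IsPt w → p ≠ w →
    ¬ Adj p w → Set.ncard {c : Subgroup G | IsPt c ∧ Adj p c ∧ Adj w c} = 4

/-- [SRGAPP] -/
def PkgSrg : Prop :=
  ∀ {G : Type u} [Group G] [Finite G] (l : ℕ), (∃ p : Subgroup G, IsPt p) →
    (∀ p : Subgroup G, IsPt p → Set.ncard {a : Subgroup G | IsPt a ∧ Adj p a} = 3 * l) →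
    (∀ p a : Subgroup G, IsPt p → IsPt a → Adj p a →
      Set.ncard {c : Subgroup G | IsPt c ∧ Adj p c ∧ Adj a c} = l + 1) →
    (∀ p w : Subgroup G, IsPt p → IsPt w → p ≠ w → ¬ Adj p w →
      Set.ncard {c : Subgroup G | IsPt c ∧ Adj p c ∧ Adj w c} = 4) →
    l ≤ 2

/-- [ALLIN] -/
def PkgAllIn : Prop :=
  ∀ {G : Type u} [Group G] [Finite G], Ax G → (∃ p : Subgroup G, IsPt p) →
    4 < Set.ncard {p : Subgroup G | IsPt p} → (∀ p : Subgroup G, IsPt p → lineCount p ≤ 2) →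
    ∃ L : Subgroup G, IsPlaneSub L ∧ ∀ q : Subgroup G, IsPt q → q ≤ L

/-- [FIN1] -/
def PkgFin1 : Prop :=
  ∀ {G : Type u} [Group G] [Finite G], Ax G → commutator G = ⊤ → ∀ L : Subgroup G,
    IsPlaneSub L → (∀ q : Subgroup G, IsPt q → q ≤ L) →
    L ⊔ Subgroup.centralizer (L : Set G) = ⊤

/-- [FIN2] -/
def PkgFin2 : Prop :=
  ∀ {G : Type u} [Group G] [Finite G], Ax G → commutator G = ⊤ → ∀ L : Subgroup G,
    IsPlaneSub L → L ⊔ Subgroup.centralizer (L : Set G) = ⊤ → L = ⊤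

/-- [FIN3] -/
def PkgFin3 : Prop :=
  ∀ {G : Type u} [Group G] [Finite G], Ax G → IsPlaneSub (⊤ : Subgroup G) →
    Nonempty (G ≃* Matrix.SpecialLinearGroup (Fin 2) (ZMod 5))

end Cfsg.Agent.Lib.Helper49.ZAS
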