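import Mathlib
import Cfsg.Agent.Lib.Helper49.ZAS.Defs

set_option autoImplicit false

universe u

namespace Cfsg.Agent.Lib.Helper49.ZAS

/-- assembly of the ZAS packages -/
theorem zas_main
    (redSyl : PkgRedSyl.{u}) (redInv : PkgRedInv.{u}) (redLin : PkgRedLin.{u})
    (redIJ : PkgRedIJ.{u}) (linBasic : PkgLinBasic.{u})
    (pairLin : PkgPairLin.{u}) (t1Lin : PkgT1Lin.{u})
    (three : PkgThree.{u}) (nPts : PkgNPts.{u}) (lConst : PkgLConst.{u})
    (kval : PkgK.{u}) (lam : PkgLambda.{u}) (mu : PkgMu.{u}) (srg : PkgSrg.{u})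
    (allIn : PkgAllIn.{u}) (fin1 : PkgFin1.{u}) (fin2 : PkgFin2.{u}) (fin3 : PkgFin3.{u})
    {K : Type u} [Group K] [Finite K] (G : Subgroup (MulAut K))
    (hfpf : ∀ φ ∈ G, φ ≠ 1 → ∀ k : K, φ k = k → k = 1) (hperf : commutator G = ⊤)
    (hne : G ≠ ⊥) : Nonempty (G ≃* Matrix.SpecialLinearGroup (Fin 2) (ZMod 5)) := by
  classical
  haveI : Finite (MulAut K) :=
    Finite.of_injective (fun f : MulAut K => (f : K → K)) DFunLike.coe_injective
  have hsyl : SylCQ G := redSyl G hfpf hne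
  obtain ⟨hcomm, hs⟩ := redInv G hfpf hperf hne hsyl
  have hlin0 : LinFpf0 G := redLin G hfpf hne hcomm hs
  obtain ⟨p, hp, V, hV1, hV2, hV3, hnt, hp2, ⟨D⟩⟩ := redIJ hlin0
  have hbasic := linBasic D.toLinData0
  have ax : Ax G :=
    { ui := hbasic.2.2.2.2
      syl := hsyl
      pair := pairLin D hp2 hsyl
      t1 := t1Lin D hp2 hsyl }
  haveI : Nontrivial G := (Subgroup.nontrivial_iff_ne_bot G).mpr hne
  obtain ⟨p₀, hp₀⟩ := three hsyl hperf inferInstance
  have hN := nPts hsyl hperf ⟨p₀, hp₀⟩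
  have hl : ∀ q : Subgroup G, IsPt q → lineCount q = lineCount p₀ :=
    fun q hq => lConst ax q p₀ hq hp₀
  have hle : lineCount p₀ ≤ 2 := by
    refine srg (lineCount p₀) ⟨p₀, hp₀⟩ ?_ ?_ ?_
    · intro q hq
      rw [kval ax q hq, hl q hq]
    · intro q a hq ha hqa
      rw [lam ax q a hq ha hqa, hl q hq]
    · intro q w hq hw hqw hnadj
      exact mu ax q w hq hw hqw hnadj
  obtain ⟨L, hL, hall⟩ := allIn ax ⟨p₀, hp₀⟩ hN (fun q hq => by rw [hl q hq]; exact hle)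
  have h1 := fin1 ax hperf L hL hall
  have h2 := fin2 ax hperf L hL h1
  subst h2
  exact fin3 ax hL

end Cfsg.Agent.Lib.Helper49.ZAS
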